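import Cfsg.Agent.Chars.GaloisDegree.Cyclic
import Cfsg.Agent.Chars.Basic
import Cfsg.Agent.PGroup.Normal
import Mathlib.GroupTheory.OrderOfElement

/-!
# Characters of the same degree being Galois conjugate: groups with derived subgroup of order `p`
-/

set_option autoImplicit false

namespace CfsgLib.GaloisDegree

open Cfsg CfsgLib.Chars
open scoped commutatorElement ComplexConjugate

universe u

variable {P : Type u} [Group P] [Finite P] {p : ℕ} [Fact p.Prime]

/-- Characters of equal nontrivial degree are Galois conjugate. -/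
def SameDegConj (P : Type u) [Group P] : Prop :=
  ∀ χ ψ : IrrCharacter P, charDegree (χ : P → ℂ) ≠ 1 →
    charDegree (χ : P → ℂ) = charDegree (ψ : P → ℂ) →
      ∃ k : ℕ, Nat.Coprime k (Nat.card P) ∧ ∀ g : P, (ψ : P → ℂ) g = (χ : P → ℂ) (g ^ k)

omit [Fact p.Prime] in
theorem SameDegConj.ker_le (H : SameDegConj P) {χ ψ : IrrCharacter P}
    (h1 : charDegree (χ : P → ℂ) ≠ 1) (h2 : charDegree (χ : P → ℂ) = charDegree (ψ : P → ℂ))
    {g : P} (hg : g ∈ charKer (χ : P → ℂ)) : g ∈ charKer (ψ : P → ℂ) := by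
  obtain ⟨k, -, hk⟩ := H χ ψ h1 h2
  rw [mem_charKer_iff (isCharacter_coe ψ), hk, hk, one_pow]
  exact map_eq_map_one_of_mem_charKer (pow_mem hg k)

omit [Fact p.Prime] in
theorem SameDegConj.quotient (H : SameDegConj P) (N : Subgroup P) [N.Normal] :
    SameDegConj (P ⧸ N) := by
  intro χ ψ h1 h2
  obtain ⟨k, hk, hk'⟩ := H (inflate N χ) (inflate N ψ) (by rwa [charDegree_inflate])
    (by rwa [charDegree_inflate, charDegree_inflate])
  refine ⟨k, hk.coprime_dvd_right (Subgroup.card_quotient_dvd_card N), fun g => ?_⟩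
  obtain ⟨g, rfl⟩ := QuotientGroup.mk_surjective g
  exact hk' g

omit [Fact p.Prime] in
theorem commutator_quotient (N : Subgroup P) [N.Normal] :
    (commutator P).map (QuotientGroup.mk' N) = commutator (P ⧸ N) := by
  rw [commutator_def, commutator_def, Subgroup.map_commutator,
    Subgroup.map_top_of_surjective _ (QuotientGroup.mk'_surjective N)]

omit [Fact p.Prime] in
theorem card_commutator_quotient {N : Subgroup P} [N.Normal] (hN : N ≤ commutator P) :
    Nat.card (commutator (P ⧸ N)) * Nat.card N = Nat.card (commutator P) := by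
  rw [← commutator_quotient N]
  set f := (QuotientGroup.mk' N).comp (commutator P).subtype with hf
  have h1 : f.range = (commutator P).map (QuotientGroup.mk' N) := by
    rw [hf, MonoidHom.range_comp, Subgroup.range_subtype]
  have h2 : f.ker = N.subgroupOf (commutator P) := by
    rw [hf, ← MonoidHom.comap_ker, QuotientGroup.ker_mk']; rfl
  rw [← h1, ← Subgroup.index_ker, mul_comm, ← Nat.card_congr (Subgroup.subgroupOfEquivOfLe hN).toEquiv,
    ← h2, Subgroup.card_mul_index]

theorem commutator_le_center (hP : IsPGroup p P) (hc : Nat.card (commutator P) = p) :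
    commutator P ≤ Subgroup.center P :=
  CfsgLib.PGroup.le_center_of_card_eq hP _ hc

omit [Fact p.Prime] in
theorem exists_nonlinear {g : P} (hg : g ∈ commutator P) (hg1 : g ≠ 1) :
    ∃ χ : IrrCharacter P, g ∉ charKer (χ : P → ℂ) ∧ charDegree (χ : P → ℂ) ≠ 1 := by
  by_contra! h
  apply hg1
  refine eq_one_of_forall_eq fun χ => ?_
  by_cases hk : g ∈ charKer (χ : P → ℂ)
  · exact map_eq_map_one_of_mem_charKer hk
  · have h1 := (charDegree_eq_one_iff χ).1 (h χ hk)
    exact absurd ((commutator_le_charKer_iff χ).2 h1 hg) hk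

omit [Fact p.Prime] in
theorem not_le_charKer {χ : IrrCharacter P} (hd : charDegree (χ : P → ℂ) ≠ 1) :
    ¬ commutator P ≤ charKer (χ : P → ℂ) := fun h =>
  hd ((charDegree_eq_one_iff χ).2 ((commutator_le_charKer_iff χ).1 h))

theorem zpowers_eq_commutator (hc : Nat.card (commutator P) = p) {z : P} (hz : z ∈ commutator P)
    (hz1 : z ≠ 1) : Subgroup.zpowers z = commutator P := by
  have hle : Subgroup.zpowers z ≤ commutator P := Subgroup.zpowers_le.2 hz
  refine Subgroup.eq_of_le_of_card_ge hle ?_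
  rcases (Nat.dvd_prime (Fact.out : p.Prime)).1 (hc ▸ Subgroup.card_dvd_of_le hle) with h | h
  · exact absurd (Subgroup.zpowers_eq_bot.1 (Subgroup.eq_bot_of_card_eq _ h)) hz1
  · rw [h, hc]

/-- A nonlinear character vanishes off the centre. -/
theorem eq_zero_of_notMem_center (hP : IsPGroup p P) (hc : Nat.card (commutator P) = p)
    {χ : IrrCharacter P} (hd : charDegree (χ : P → ℂ) ≠ 1) {x : P} (hx : x ∉ Subgroup.center P) :
    (χ : P → ℂ) x = 0 := by
  obtain ⟨g, hg⟩ : ∃ g : P, g * x ≠ x * g := by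
    by_contra! h
    exact hx (Subgroup.mem_center_iff.2 h)
  have hz : ⁅g, x⁆ ∈ commutator P := by
    rw [commutator_def]
    exact Subgroup.commutator_mem_commutator (Subgroup.mem_top g) (Subgroup.mem_top x)
  have hz1 : ⁅g, x⁆ ≠ 1 := fun h => hg (commutatorElement_eq_one_iff_mul_comm.1 h)
  have hker : ⁅g, x⁆ ∉ charKer (χ : P → ℂ) := fun h => not_le_charKer hd
    (zpowers_eq_commutator hc hz hz1 ▸ Subgroup.zpowers_le.2 h)
  have e := map_mul_of_mem_center χ (commutator_le_center hP hc hz) x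
  rw [show ⁅g, x⁆ * x = g * x * g⁻¹ by rw [commutatorElement_def]; group,
    isClassFunction_coe χ] at e
  by_contra h0
  apply hker
  rw [mem_charKer_iff (isCharacter_coe χ)]
  have e2 : (χ : P → ℂ) ⁅g, x⁆ / (χ : P → ℂ) 1 = 1 := by
    rwa [eq_comm, mul_eq_right₀ h0] at e
  exact (div_eq_one_iff_eq (map_one_ne_zero χ)).1 e2

theorem degree_sq (hP : IsPGroup p P) (hc : Nat.card (commutator P) = p)
    {χ : IrrCharacter P} (hd : charDegree (χ : P → ℂ) ≠ 1) :
    charDegree (χ : P → ℂ) ^ 2 * Nat.card (Subgroup.center P) = Nat.card P := by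
  classical
  haveI := Fintype.ofFinite P
  have h : (∑ g : P, ‖(χ : P → ℂ) g‖ ^ 2 : ℝ) = Nat.card P := by
    have := sum_mul_map_inv χ χ
    rw [if_pos rfl] at this
    simp only [map_inv_eq_conj (isCharacter_coe χ), Complex.mul_conj,
      Complex.normSq_eq_norm_sq] at this
    exact_mod_cast this
  rw [← Finset.sum_filter_add_sum_filter_not Finset.univ (fun g => g ∈ Subgroup.center P),
    Finset.sum_eq_zero (s := Finset.univ.filter fun g : P => g ∉ Subgroup.center P) (fun g hg => by
      rw [eq_zero_of_notMem_center hP hc hd (Finset.mem_filter.1 hg).2]; simp),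
    add_zero, Finset.sum_congr rfl (g := fun _ => (charDegree (χ : P → ℂ) : ℝ) ^ 2) (fun g hg => by
      rw [norm_map_of_mem_center χ (Finset.mem_filter.1 hg).2, ← coe_charDegree, Complex.norm_natCast]),
    Finset.sum_const, nsmul_eq_mul, ← Fintype.card_subtype, ← Nat.card_eq_fintype_card] at h
  rw [mul_comm]
  exact_mod_cast h

/-- The centre is cyclic. -/
theorem SameDegConj.isCyclic_center (H : SameDegConj P) (hP : IsPGroup p P)
    (hc : Nat.card (commutator P) = p) : IsCyclic (Subgroup.center P) := by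
  haveI : IsMulCommutative (Subgroup.center P) :=
    ⟨⟨fun a b => Subtype.ext (Subgroup.mem_center_iff.1 b.2 a)⟩⟩
  have key : ∀ w : Subgroup.center P, w ^ p = 1 → (w : P) ∈ commutator P := by
    intro w hw
    by_contra hwc
    haveI hn : (Subgroup.zpowers (w : P)).Normal :=
      ⟨fun a ha g => by
        have : a ∈ Subgroup.center P := Subgroup.zpowers_le.2 w.2 ha
        rw [Subgroup.mem_center_iff.1 this g, mul_inv_cancel_right]; exact ha⟩
    set K := Subgroup.zpowers (w : P)
    haveI : Nontrivial (commutator P) := Finite.one_lt_card_iff_nontrivial.1 (hc ▸ (Fact.out : p.Prime).one_lt)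
    obtain ⟨z, hz⟩ := exists_ne (1 : commutator P)
    have hzK : (z : P) ∉ K := fun h => by
      obtain ⟨j, hj⟩ := Subgroup.mem_zpowers_iff.1 h
      have hw1 : (w : P) ≠ 1 := fun e => hwc (e ▸ one_mem _)
      have hwp : orderOf (w : P) = p := orderOf_eq_prime (by exact_mod_cast hw) hw1
      have hsub : Subgroup.zpowers (z : P) ≤ K := Subgroup.zpowers_le.2 h
      have heq : Subgroup.zpowers (z : P) = K := Subgroup.eq_of_le_of_card_ge hsub (by
        rw [zpowers_eq_commutator hc z.2 (fun e => hz (Subtype.ext e)), hc, Nat.card_zpowers, hwp])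
      exact hwc (zpowers_eq_commutator hc z.2 (fun e => hz (Subtype.ext e)) ▸ heq ▸ Subgroup.mem_zpowers (w : P))
    obtain ⟨ψ, -, hψ⟩ := exists_nonlinear (P := P ⧸ K) (g := QuotientGroup.mk' K (z : P))
      (commutator_quotient K ▸ Subgroup.mem_map_of_mem _ z.2)
      (fun e => hzK ((QuotientGroup.eq_one_iff _).1 e))
    set χ := inflate K ψ
    have hχ : charDegree (χ : P → ℂ) ≠ 1 := by rwa [charDegree_inflate]
    obtain ⟨l, hl⟩ := exists_linChar_ne_one hwc
    let χ' : IrrCharacter P := ⟨_, isIrrCharacter_linear_mul χ.2 l⟩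
    have hdeg : charDegree (χ : P → ℂ) = charDegree (χ' : P → ℂ) := by
      simp [charDegree, χ']
    have hwk : (w : P) ∈ charKer (χ : P → ℂ) := le_charKer_inflate K ψ (Subgroup.mem_zpowers _)
    have h := map_eq_map_one_of_mem_charKer (H.ker_le hχ hdeg hwk)
    simp only [χ', map_one, Units.val_one, one_mul, map_eq_map_one_of_mem_charKer hwk] at h
    rw [mul_eq_right₀ (map_one_ne_zero χ)] at h
    exact hl (Units.ext (by simpa using h))
  refine isCyclic_of_abelian (hP.to_subgroup _) fun x y hx hy hy1 => ?_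
  have h := zpowers_eq_commutator hc (key y hy) (fun e => hy1 (Subtype.ext e))
  obtain ⟨j, hj⟩ := Subgroup.mem_zpowers_iff.1 (h ▸ key x hx)
  exact ⟨j, Subtype.ext (by simpa using hj)⟩

/-- The converse. -/
theorem sameDegConj (hP : IsPGroup p P) (hc : Nat.card (commutator P) = p)
    (hcyc : IsCyclic (Subgroup.center P)) : SameDegConj P := by
  intro χ ψ h1 h2
  have hp : p.Prime := Fact.out
  obtain ⟨g, hg⟩ := hcyc.exists_generator
  have hfaith : ∀ φ : IrrCharacter P, charDegree (φ : P → ℂ) ≠ 1 → charKer (φ : P → ℂ) = ⊥ := by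
    intro φ hφ
    by_contra hne
    obtain ⟨⟨w, hw⟩, hw1'⟩ := Subgroup.ne_bot_iff_exists_ne_one.1
      (CfsgLib.PGroup.inf_center_ne_bot hP (charKer (φ : P → ℂ)) hne)
    have hw1 : w ≠ 1 := fun e => hw1' (Subtype.ext e)
    haveI : Nontrivial (commutator P) := Finite.one_lt_card_iff_nontrivial.1 (hc ▸ hp.one_lt)
    obtain ⟨z, hz⟩ := exists_ne (1 : commutator P)
    obtain ⟨j, hj⟩ := (hP.exists_orderOf_eq_pow (w : P))
    have hj0 : 0 < j := Nat.pos_of_ne_zero fun h0 => hw1 (orderOf_eq_one_iff.1 (by rw [hj, h0, pow_zero]))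
    set y : Subgroup.center P := ⟨(w : P), hw.2⟩ ^ p ^ (j - 1) with hy
    have hyp : y ^ p = 1 := Subtype.ext (by
      simp only [hy, SubmonoidClass.coe_pow, OneMemClass.coe_one, ← pow_mul, ← pow_succ,
        Nat.sub_add_cancel hj0, ← hj, pow_orderOf_eq_one])
    have hy1 : y ≠ 1 := fun e => by
      have e' : w ^ p ^ (j - 1) = 1 := by simpa [hy] using congrArg Subtype.val e
      have := orderOf_dvd_of_pow_eq_one e'
      rw [hj, Nat.pow_dvd_pow_iff_le_right hp.one_lt] at this
      omega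
    have hzc : (⟨z, commutator_le_center hP hc z.2⟩ : Subgroup.center P) ^ p = 1 := Subtype.ext (by
      have := pow_card_eq_one' (x := z)
      rw [hc] at this
      simpa using congrArg Subtype.val this)
    obtain ⟨i, hi⟩ := Subgroup.mem_zpowers_iff.1 (mem_zpowers_of_cyclic hzc hyp hy1)
    have hzk : (z : P) ∈ charKer (φ : P → ℂ) := by
      have hi' : (y : P) ^ i = z := by simpa using congrArg Subtype.val hi
      rw [← hi', hy]
      exact zpow_mem (by simpa using pow_mem hw.1 _) _
    exact not_le_charKer hφ (zpowers_eq_commutator hc z.2 (fun e => hz (Subtype.ext e)) ▸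
      Subgroup.zpowers_le.2 hzk)
  have hpow : ∀ φ : IrrCharacter P, ∀ i : ℕ, (φ : P → ℂ) ((g : P) ^ i) =
      (φ : P → ℂ) 1 * ((φ : P → ℂ) g / (φ : P → ℂ) 1) ^ i := by
    intro φ i
    induction i with
    | zero => simp
    | succ i ih => rw [pow_succ', map_mul_of_mem_center φ g.2, ih, pow_succ]; ring
  have hprim : ∀ φ : IrrCharacter P, charDegree (φ : P → ℂ) ≠ 1 →
      IsPrimitiveRoot ((φ : P → ℂ) g / (φ : P → ℂ) 1) (orderOf (g : P)) := by
    intro φ hφ
    refine ⟨?_, fun l hl => ?_⟩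
    · have := hpow φ (orderOf (g : P))
      rw [pow_orderOf_eq_one] at this
      exact (mul_eq_left₀ (map_one_ne_zero φ)).1 this.symm
    · have h := hpow φ l
      rw [hl, mul_one] at h
      refine orderOf_dvd_of_pow_eq_one ?_
      have : (g : P) ^ l ∈ charKer (φ : P → ℂ) := (mem_charKer_iff (isCharacter_coe φ)).2 h
      rwa [hfaith φ hφ, Subgroup.mem_bot] at this
  haveI : NeZero (orderOf (g : P)) := ⟨(orderOf_pos _).ne'⟩
  obtain ⟨k, hk, hk'⟩ := (hprim χ h1).isPrimitiveRoot_iff.1 (hprim ψ (h2 ▸ h1))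
  have hg1 : (g : P) ≠ 1 := fun e => by
    have hz : Subgroup.center P = ⊥ := by
      rw [eq_bot_iff]
      intro z hz
      obtain ⟨i, hi⟩ := Subgroup.mem_zpowers_iff.1 (hg ⟨z, hz⟩)
      have hi' : (g : P) ^ i = z := by simpa using congrArg Subtype.val hi
      rw [← hi', e, one_zpow]; exact one_mem _
    have := commutator_le_center hP hc
    rw [hz, le_bot_iff] at this
    rw [this, Subgroup.card_bot] at hc
    exact hp.one_lt.ne hc
  obtain ⟨eg, heg⟩ := hP.exists_orderOf_eq_pow (g : P)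
  have heg0 : eg ≠ 0 := fun h0 => hg1 (orderOf_eq_one_iff.1 (by rw [heg, h0, pow_zero]))
  have hkp : k.Coprime (Nat.card P) := by
    obtain ⟨n, hn⟩ := IsPGroup.iff_card.1 hP
    rw [hn]
    exact ((Nat.coprime_pow_right_iff (Nat.pos_of_ne_zero heg0) k p).1 (heg ▸ hk'.1)).pow_right n
  refine ⟨k, hkp, fun x => ?_⟩
  by_cases hx : x ∈ Subgroup.center P
  · obtain ⟨i, hi : g ^ i = _⟩ :=
      (isOfFinOrder_of_finite g).mem_powers_iff_mem_zpowers.2 (hg ⟨x, hx⟩)
    have hx' : (g : P) ^ i = x := by simpa using congrArg Subtype.val hi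
    have e1 : (ψ : P → ℂ) 1 = (χ : P → ℂ) 1 := by rw [← coe_charDegree, ← coe_charDegree, h2]
    rw [← e1] at hk'
    rw [← hx', ← pow_mul, hpow, hpow, e1]
    rw [e1] at hk'
    rw [← hk'.2, ← pow_mul, mul_comm k i]
  · rw [eq_zero_of_notMem_center hP hc (h2 ▸ h1) hx, eq_zero_of_notMem_center hP hc h1]
    intro hxk
    apply hx
    obtain ⟨j, hj⟩ := exists_pow_eq_self_of_coprime (x := x) (n := k)
      (hkp.coprime_dvd_right (orderOf_dvd_natCard x))
    rw [← hj]
    exact pow_mem hxk j

end CfsgLib.GaloisDegree
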