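import Mathlib.GroupTheory.SpecificGroups.Cyclic
import Mathlib.GroupTheory.PGroup
import Mathlib.GroupTheory.Sylow
import Mathlib.GroupTheory.Commutator.Basic
import Mathlib.Data.Fintype.Lattice

/-!
# Small facts on cyclic and abelian `p`-groups and central commutators
-/

set_option autoImplicit false

namespace CfsgLib.GaloisDegree

open scoped commutatorElement

universe u

variable {G : Type u} [Group G] {p : ℕ}

/-- In a cyclic group there is one subgroup of each prime order. -/
theorem mem_zpowers_of_cyclic [Finite G] [IsCyclic G] [Fact p.Prime] {x y : G} (hx : x ^ p = 1)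
    (hy : y ^ p = 1) (hy1 : y ≠ 1) : x ∈ Subgroup.zpowers y := by
  classical
  haveI : Fintype G := Fintype.ofFinite G
  have hyo : orderOf y = p := orderOf_eq_prime hy hy1
  have hsub : (Finset.univ.filter fun a : G => a ∈ Subgroup.zpowers y) ⊆
      Finset.univ.filter fun a : G => a ^ p = 1 := by
    intro a ha
    obtain ⟨j, rfl⟩ := Subgroup.mem_zpowers_iff.1 (Finset.mem_filter.1 ha).2
    exact Finset.mem_filter.2 ⟨Finset.mem_univ _, by
      rw [← zpow_natCast, ← zpow_mul, mul_comm, zpow_mul, zpow_natCast, hy, one_zpow]⟩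
  have hle : (Finset.univ.filter fun a : G => a ^ p = 1).card ≤
      (Finset.univ.filter fun a : G => a ∈ Subgroup.zpowers y).card := by
    refine (IsCyclic.card_pow_eq_one_le (Fact.out : p.Prime).pos).trans ?_
    rw [← Fintype.card_subtype, ← Nat.card_eq_fintype_card]
    exact (hyo.symm.trans (Nat.card_zpowers y).symm).le
  have := Finset.eq_of_subset_of_card_le hsub hle
  have hx' : x ∈ Finset.univ.filter fun a : G => a ^ p = 1 :=
    Finset.mem_filter.2 ⟨Finset.mem_univ _, hx⟩
  rw [← this] at hx'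
  exact (Finset.mem_filter.1 hx').2

/-- In a cyclic group an element lies in every cyclic subgroup of order divisible by its own. -/
theorem mem_zpowers_of_orderOf_dvd [Finite G] [IsCyclic G] {x y : G} (h : orderOf x ∣ orderOf y) :
    x ∈ Subgroup.zpowers y := by
  classical
  haveI : Fintype G := Fintype.ofFinite G
  have hsub : (Finset.univ.filter fun a : G => a ∈ Subgroup.zpowers y) ⊆
      Finset.univ.filter fun a : G => a ^ orderOf y = 1 := by
    intro a ha
    obtain ⟨j, rfl⟩ := Subgroup.mem_zpowers_iff.1 (Finset.mem_filter.1 ha).2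
    exact Finset.mem_filter.2 ⟨Finset.mem_univ _, by
      rw [← zpow_natCast, ← zpow_mul, mul_comm, zpow_mul, zpow_natCast, pow_orderOf_eq_one, one_zpow]⟩
  have hle : (Finset.univ.filter fun a : G => a ^ orderOf y = 1).card ≤
      (Finset.univ.filter fun a : G => a ∈ Subgroup.zpowers y).card := by
    refine (IsCyclic.card_pow_eq_one_le (orderOf_pos y)).trans ?_
    rw [← Fintype.card_subtype, ← Nat.card_eq_fintype_card]
    exact (Nat.card_zpowers y).symm.le
  have := Finset.eq_of_subset_of_card_le hsub hle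
  have hx' : x ∈ Finset.univ.filter fun a : G => a ^ orderOf y = 1 :=
    Finset.mem_filter.2 ⟨Finset.mem_univ _, orderOf_dvd_iff_pow_eq_one.1 h⟩
  rw [← this] at hx'
  exact (Finset.mem_filter.1 hx').2

/-- An abelian `p`-group with one subgroup of order `p` is cyclic. -/
theorem isCyclic_of_abelian [Finite G] [Fact p.Prime] [IsMulCommutative G] (hG : IsPGroup p G)
    (h : ∀ x y : G, x ^ p = 1 → y ^ p = 1 → y ≠ 1 → x ∈ Subgroup.zpowers y) : IsCyclic G := by
  classical
  have hp : p.Prime := Fact.out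
  have hcomm : ∀ a b : G, a * b = b * a := fun a b => IsMulCommutative.is_comm.comm a b
  obtain ⟨a, ha⟩ := Finite.exists_max (orderOf : G → ℕ)
  refine ⟨a, fun b => ?_⟩
  suffices H : ∀ j : ℕ, ∀ c : G, c ^ p ^ j = 1 → c ∈ Subgroup.zpowers a by
    obtain ⟨j, hj⟩ := hG b
    exact Subgroup.mem_zpowers_iff.1 (H j b hj)
  intro j
  induction j with
  | zero => intro c hc; rw [pow_zero, pow_one] at hc; rw [hc]; exact one_mem _
  | succ j ih =>
    intro c hc
    obtain ⟨ea, hea⟩ := hG.exists_orderOf_eq_pow a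
    obtain ⟨ec, hec⟩ := hG.exists_orderOf_eq_pow c
    have hcp := ih (c ^ p) (by rw [← pow_mul, ← pow_succ']; exact hc)
    obtain ⟨i, hi : a ^ i = c ^ p⟩ :=
      (isOfFinOrder_of_finite a).mem_powers_iff_mem_zpowers.2 hcp
    by_cases ha1 : a = 1
    · have := ha c
      rw [ha1, orderOf_one] at this
      have h1 : orderOf c = 1 := le_antisymm this (orderOf_pos c)
      rw [orderOf_eq_one_iff.1 h1]; exact one_mem _
    have hea0 : 0 < ea := Nat.pos_of_ne_zero fun h0 => ha1 (orderOf_eq_one_iff.1 (by rw [hea, h0, pow_zero]))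
    have hle : ec ≤ ea := (Nat.pow_le_pow_iff_right hp.one_lt).1 (hec ▸ hea ▸ ha c)
    have hpi : p ∣ i := by
      have h1 : a ^ (i * p ^ (ea - 1)) = 1 := by
        rw [pow_mul, hi, ← pow_mul, ← pow_succ', Nat.sub_add_cancel hea0]
        exact orderOf_dvd_iff_pow_eq_one.1 (hec ▸ pow_dvd_pow p hle)
      have h2 := orderOf_dvd_of_pow_eq_one h1
      rw [hea, ← Nat.sub_add_cancel hea0, pow_succ', Nat.add_sub_cancel] at h2
      exact Nat.dvd_of_mul_dvd_mul_right (pow_pos hp.pos _) h2
    obtain ⟨i', rfl⟩ := hpi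
    set d := c * (a ^ i')⁻¹ with hd
    have hdp : d ^ p = 1 := by
      rw [hd, (show Commute c (a ^ i')⁻¹ from hcomm _ _).mul_pow, inv_pow, ← pow_mul, mul_comm i', hi,
        mul_inv_cancel]
    set w := a ^ p ^ (ea - 1) with hw
    have hwp : w ^ p = 1 := by
      rw [hw, ← pow_mul, ← pow_succ, Nat.sub_add_cancel hea0, ← hea, pow_orderOf_eq_one]
    have hw1 : w ≠ 1 := fun e => by
      have h2 := orderOf_dvd_of_pow_eq_one e
      rw [hea, Nat.pow_dvd_pow_iff_le_right hp.one_lt] at h2
      omega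
    have hdz : d ∈ Subgroup.zpowers a :=
      (Subgroup.zpowers_le.2 (pow_mem (Subgroup.mem_zpowers a) _)) (h d w hdp hwp hw1)
    have : c = d * a ^ i' := by rw [hd, inv_mul_cancel_right]
    rw [this]
    exact mul_mem hdz (pow_mem (Subgroup.mem_zpowers a) _)

/-- Powers and commutators, the commutator being central. -/
theorem commutatorElement_pow_left {x y : G} (h : ⁅x, y⁆ ∈ Subgroup.center G) :
    ∀ j : ℕ, ⁅x ^ j, y⁆ = ⁅x, y⁆ ^ j := by
  intro j
  induction j with
  | zero => simp [commutatorElement_def]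
  | succ j ih =>
    have hc := Subgroup.mem_center_iff.1 (pow_mem h j) x
    calc ⁅x ^ (j + 1), y⁆ = x * ⁅x ^ j, y⁆ * x⁻¹ * ⁅x, y⁆ := by
          simp only [commutatorElement_def, pow_succ']; group
      _ = _ := by rw [ih, hc, mul_inv_cancel_right, pow_succ]

theorem commutatorElement_mul_left {x y z : G} (h : ⁅y, z⁆ ∈ Subgroup.center G) :
    ⁅x * y, z⁆ = ⁅y, z⁆ * ⁅x, z⁆ := by
  have hc := Subgroup.mem_center_iff.1 h x
  calc ⁅x * y, z⁆ = x * ⁅y, z⁆ * x⁻¹ * ⁅x, z⁆ := by simp only [commutatorElement_def]; group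
    _ = _ := by rw [hc, mul_inv_cancel_right]

end CfsgLib.GaloisDegree
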